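import Groth.Agent.S1525
import Groth.Agent.S0927
import Groth.Agent.S0033
import Groth.Agent.VarietyA.DegRank
import Groth.Agent.PerfC.FlatExact
import Groth.Agent.PerfA.CohSerre
import Groth.Agent.FormalA.PullbackQC
import Groth.Agent.Dcoh.DerSch
import Groth.Agent.CycB.DegSky
import Groth.Agent.Ega3B.PullTensor
import Groth.Agent.Ega2.QCohLocal

/-!
# Euler characteristics of twists by modules pulled back from a curve

`f : X ⟶ S` a morphism of proper `k`-schemes, `S` integral of dimension at most one, `G` coherent on `X`,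
`M` locally free of rank one on `S`, `η : Spec Ω ⟶ S` a point of `S` with values in a field, above the generic
point: `χ(X, G ⊗ f^*M) = χ(X, G) + deg M · χ(X_η, G_η)` (`euler_twist`).
-/

set_option autoImplicit false
universe u

open CategoryTheory CategoryTheory.Limits AlgebraicGeometry TopologicalSpace Opposite

namespace Groth.Agent.Vancyc.H769.EulerTwist

open Groth.Agent.VarietyA.DegRank Groth.Agent.Ega3B.Devissage Groth.Agent.CycB.StalkExact

section Point

variable (Ω : Type u) [Field Ω]

/-- `χ(Spec Ω, O) = 1`. -/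
theorem euler_spec [(Spec (CommRingCat.of Ω)).Over (Spec (CommRingCat.of Ω))]
    (h : (Spec (CommRingCat.of Ω)) ↘ (Spec (CommRingCat.of Ω)) = 𝟙 _) :
    Curv2.euler Ω (Spec (CommRingCat.of Ω)) (Coh.structureModule (Spec (CommRingCat.of Ω))) = 1 := by
  have hp : IsProper ((Spec (CommRingCat.of Ω)) ↘ (Spec (CommRingCat.of Ω))) := by
    rw [h]; infer_instance
  have hu : (Set.univ : Set (Spec (CommRingCat.of Ω))).Finite := Set.finite_univ
  rw [Groth.Agent.CycB.DegSky.euler_eq_sum Ω _ _ (Groth.Agent.Fdesc.StructMod.isCoh_structureModule _) hu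
    (fun x _ => by
      have : ({x} : Set (Spec (CommRingCat.of Ω))) = Set.univ := by
        ext y; simp [Subsingleton.elim y x]
      rw [this]; exact isClosed_univ) (fun x hx => absurd (Set.mem_univ x) hx) ?_]
  · have hs : hu.toFinset = {genericPoint (Spec (CommRingCat.of Ω))} := by
      ext y
      rw [Set.Finite.mem_toFinset, Finset.mem_singleton]
      exact ⟨fun _ => Subsingleton.elim y _, fun _ => Set.mem_univ _⟩
    have hl : Module.length ((Spec (CommRingCat.of Ω)).presheaf.stalk (genericPoint (Spec (CommRingCat.of Ω))))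
        ((Coh.structureModule (Spec (CommRingCat.of Ω))).presheaf.stalk
          (genericPoint (Spec (CommRingCat.of Ω)))) = 1 := by
      rw [← (Groth.Agent.Fdesc.StructMod.stalkEquiv (genericPoint (Spec (CommRingCat.of Ω)))).length_eq,
        Module.length_eq_one_iff, isSimpleModule_self_iff_isUnit]
      exact ⟨inferInstance, fun x hx => isUnit_iff_ne_zero.mpr hx⟩
    rw [hs, Finset.sum_singleton, hl, h, Scheme.Hom.residueDegree_id]
    rfl
  · intro x _
    rw [h, Scheme.residueFieldMap_id]
    exact RingHom.Finite.id _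

/-- Flatness of a point over the generic point of an integral scheme. -/
theorem flat_of_generic {S : Scheme.{u}} [IsIntegral S] (η : Spec (CommRingCat.of Ω) ⟶ S)
    (hη : η.base (IsLocalRing.closedPoint Ω) = genericPoint S) : Flat η := by
  rw [Flat.iff_flat_stalkMap]
  intro x
  have hx : η x = genericPoint S := by
    rw [← hη]
    exact congrArg _ (Subsingleton.elim x _)
  have hf : IsField (S.presheaf.stalk (η x)) := by
    rw [hx]
    exact (inferInstance : Field S.functionField).toIsField
  let i1 := hf.toField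
  algebraize [(η.stalkMap x).hom]
  exact @Module.Flat.of_free _ _ _ _ _ (Module.Free.of_divisionRing _ _)

/-- `χ_Ω(Spec Ω, η^*N) = rk N` for `N` coherent on an integral Noetherian scheme and `η` above the generic
point. -/
theorem euler_point {S : Scheme.{u}} [IsIntegral S] [IsNoetherian S]
    [(Spec (CommRingCat.of Ω)).Over (Spec (CommRingCat.of Ω))]
    (h : (Spec (CommRingCat.of Ω)) ↘ (Spec (CommRingCat.of Ω)) = 𝟙 _)
    (η : Spec (CommRingCat.of Ω) ⟶ S)
    (hη : η.base (IsLocalRing.closedPoint Ω) = genericPoint S) (N : S.Modules) (hN : Coh.IsCoh N) :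
    Curv2.euler Ω (Spec (CommRingCat.of Ω)) ((Scheme.Modules.pullback η).obj N) = rk N := by
  have hp : IsProper ((Spec (CommRingCat.of Ω)) ↘ (Spec (CommRingCat.of Ω))) := by
    rw [h]; infer_instance
  have := flat_of_generic Ω η hη
  have := Groth.Agent.PerfC.FlatExact.preservesFiniteLimits_pullback η
  have key : ∀ F : S.Modules, Coh.IsCoh F → Coh.IsCoh ((Scheme.Modules.pullback η).obj F) := fun F hF =>
    Groth.Agent.FormalA.PullbackQC.isCoh_pullback η F hF
  have hO : Coh.IsCoh (Coh.structureModule S) := Groth.Agent.Fdesc.StructMod.isCoh_structureModule S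
  refine one_step Set.univ (fun F => Curv2.euler Ω (Spec (CommRingCat.of Ω)) ((Scheme.Modules.pullback η).obj F) =
      rk F) ?_ (genericPoint S)
      (fun z hz _ => (hz.antisymm (genericPoint_specializes z)).eq) ?_
      (Coh.structureModule S) hO (Set.subset_univ _) ?_ ?_ N hN (Set.subset_univ _)
  · intro T hT h₁ h₂ h₃ _
    have e1 := Groth.Agent.S1524.result Ω (Spec (CommRingCat.of Ω)) (T.map (Scheme.Modules.pullback η))
      (hT.map_of_exact _) (key _ h₁) (key _ h₂) (key _ h₃)
    have e3 : (rk T.X₂ : ℤ) = rk T.X₁ + rk T.X₃ := by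
      rw [rk_add T hT h₂]
      push_cast
      rfl
    simp only [ShortComplex.map_X₁, ShortComplex.map_X₂, ShortComplex.map_X₃] at e1
    refine ⟨fun h h' => ?_, fun h h' => ?_, fun h h' => ?_⟩ <;> simp only [e1, e3] at h h' ⊢
    · linear_combination h' - h
    · linear_combination h' + h
    · linear_combination h - h'
  · intro M hM _ hξ
    rw [rk_eq_zero M hξ]
    refine Groth.Agent.VarietyA.LerayEuler.euler_eq_zero_of_isZero Ω _
      (Groth.Agent.CohqB.LocalQC.isZero_of_stalks fun x =>
        Groth.Agent.PerfC.FlatExact.subsingleton_stalk_pullback η M x ?_)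
    have hx : η x = genericPoint S := by
      rw [← hη]
      exact congrArg _ (Subsingleton.elim x _)
    have : Subsingleton (M.presheaf.stalk (genericPoint S)) := not_not.mp hξ
    rw [hx]
    exact this
  · rw [rk_structureModule, euler_iso Ω (Groth.Agent.Ega3B.PullTensor.nonempty_pullUnitIso η).some,
      euler_spec Ω h]
    rfl
  · rw [← LinearEquiv.isSimpleModule_iff (Groth.Agent.Fdesc.StructMod.stalkEquiv (genericPoint S)),
      isSimpleModule_self_iff_isUnit]
    exact ⟨inferInstance, fun x hx => isUnit_iff_ne_zero.mpr hx⟩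

end Point

section Main

variable (k : Type u) [Field k] {X S : Scheme.{u}} [X.Over (Spec (CommRingCat.of k))]
  [S.Over (Spec (CommRingCat.of k))] [IsProper (X ↘ (Spec (CommRingCat.of k)))]
  [IsProper (S ↘ (Spec (CommRingCat.of k)))] [IsIntegral S]

/-- `χ_Ω(X_η, G_η) = Σ (-1)^i rk R^i f_* G`. -/
theorem euler_generic (f : X ⟶ S) [IsProper f] [IsNoetherian S] [HasInjectiveResolutions X.Modules]
    (G : X.Modules) (hG : Coh.IsCoh G) (Ω : Type u) [Field Ω] (η : Spec (CommRingCat.of Ω) ⟶ S)
    (hη : η.base (IsLocalRing.closedPoint Ω) = genericPoint S)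
    [(Limits.pullback f η).Over (Spec (CommRingCat.of Ω))]
    (hover : (Limits.pullback f η) ↘ (Spec (CommRingCat.of Ω)) = Limits.pullback.snd f η) :
    Curv2.euler Ω (Limits.pullback f η) ((Scheme.Modules.pullback (Limits.pullback.fst f η)).obj G) =
      ∑ᶠ i : ℕ, (-1 : ℤ) ^ i * (rk ((Coh.Rpush f i).obj G) : ℤ) := by
  let _ : (Spec (CommRingCat.of Ω)).Over (Spec (CommRingCat.of Ω)) := ⟨𝟙 _⟩
  have h1 : (Spec (CommRingCat.of Ω)) ↘ (Spec (CommRingCat.of Ω)) = 𝟙 _ := rfl
  have hp : IsProper ((Spec (CommRingCat.of Ω)) ↘ (Spec (CommRingCat.of Ω))) := by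
    rw [h1]; infer_instance
  have hp2 : IsProper ((Limits.pullback f η) ↘ (Spec (CommRingCat.of Ω))) := by
    rw [hover]; infer_instance
  have hflat := flat_of_generic Ω η hη
  have := Dcoh.DerSch.hasInjectiveResolutions (Limits.pullback f η)
  rw [S1525.result Ω (Spec (CommRingCat.of Ω)) (Limits.pullback f η) (Limits.pullback.snd f η)
    (by rw [h1, hover, Category.comp_id]) _ (FormalA.PullbackQC.isCoh_pullback _ G hG)]
  refine finsum_congr fun i => ?_
  have : Coh.IsQCoh G := hG.1
  obtain ⟨e⟩ := S0033.result f η (Limits.pullback.fst f η) (Limits.pullback.snd f η)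
    (IsPullback.of_hasPullback f η) G i
  rw [← euler_iso Ω e, euler_point Ω h1 η hη _ (S0036.result f G hG i)]

/-- **Twisting by a module pulled back from a curve.** -/
theorem euler_twist (hdim : topologicalKrullDim S ≤ 1) (f : X ⟶ S)
    (hf : f ≫ (S ↘ (Spec (CommRingCat.of k))) = X ↘ (Spec (CommRingCat.of k)))
    (G : X.Modules) (hG : Coh.IsCoh G) (M : S.Modules) (hM : FlatMod.IsFinLocFreeOfRank 1 M)
    (Ω : Type u) [Field Ω] (η : Spec (CommRingCat.of Ω) ⟶ S)
    (hη : η.base (IsLocalRing.closedPoint Ω) = genericPoint S)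
    [(Limits.pullback f η).Over (Spec (CommRingCat.of Ω))]
    (hover : (Limits.pullback f η) ↘ (Spec (CommRingCat.of Ω)) = Limits.pullback.snd f η) :
    Curv2.euler k X (CohB1.tensorMod G ((Scheme.Modules.pullback f).obj M)) =
      Curv2.euler k X G + Curv2.deg k S M 1 *
        Curv2.euler Ω (Limits.pullback f η) ((Scheme.Modules.pullback (Limits.pullback.fst f η)).obj G) := by
  have hprop : IsProper (f ≫ (S ↘ (Spec (CommRingCat.of k)))) := by rw [hf]; infer_instance
  have hfp : IsProper f := IsProper.of_comp f (S ↘ (Spec (CommRingCat.of k)))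
  have nS : IsNoetherian S :=
    Groth.Agent.VarietyA.GlobGen.isNoetherian_of_finiteType (S ↘ (Spec (CommRingCat.of k)))
  have := Dcoh.DerSch.hasInjectiveResolutions X
  have hMc : Coh.IsCoh M := PerfA.CohSerre.isCoh_of_isFinLocFree (fun x => by
    obtain ⟨U, hx, h⟩ := hM x
    exact ⟨U, 1, hx, h⟩)
  have hR : ∀ i, Coh.IsCoh ((Coh.Rpush f i).obj G) := fun i => S0036.result f G hG i
  have hR' : Coh.IsCoh (CohB1.tensorMod ((Scheme.Modules.pullback f).obj M) G) :=
    Groth.Agent.VarietyA.LocFreeTens.isCoh_tensor (Groth.Agent.Ega2.QCohLocal.isFinLocFreeOfRank_one_iff.mpr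
      (Groth.Agent.Fdesc.LocGen.isInvertible_pullback f
        (Groth.Agent.Ega2.QCohLocal.isFinLocFreeOfRank_one_iff.mp hM))) hG
  have hflf : FlatMod.IsFinLocFree M := fun x => by
    obtain ⟨U, hx, h⟩ := hM x
    exact ⟨U, 1, hx, h⟩
  obtain ⟨N, hN⟩ := Groth.Agent.CohqA.RelCoh.exists_bound_Rpush f
  have hz : ∀ i, N ≤ i → IsZero ((Coh.Rpush f i).obj G) := fun i hi => hN G hG.1 i hi
  have hrk : ∀ i, N ≤ i → rk ((Coh.Rpush f i).obj G) = 0 := fun i hi => by
    refine rk_eq_zero _ fun h => h ?_
    exact Groth.Agent.VarietyA.StalkCrit.stalk_of_isZero (hz i hi) _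
  have key : ∀ i, Curv2.euler k S ((Coh.Rpush f i).obj (CohB1.tensorMod ((Scheme.Modules.pullback f).obj M) G)) =
      (rk ((Coh.Rpush f i).obj G) : ℤ) * Curv2.deg k S M 1 + Curv2.euler k S ((Coh.Rpush f i).obj G) := fun i => by
    obtain ⟨e⟩ := S0927.result f G M hflf i
    rw [← euler_iso k e, euler_tensor_curve k hdim 1 M hM _ (hR i), Nat.cast_one, one_mul]
  rw [euler_iso k (Groth.Agent.Ega2.Tens.swap G ((Scheme.Modules.pullback f).obj M)),
    euler_generic f G hG Ω η hη hover, S1525.result k S X f hf G hG, S1525.result k S X f hf _ hR',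
    finsum_congr fun i => congrArg ((-1 : ℤ) ^ i * ·) (key i), mul_finsum, ← finsum_add_distrib]
  · refine finsum_congr fun i => ?_
    ring
  · refine (Set.finite_Iio N).subset fun i hi => ?_
    by_contra h
    refine hi ?_
    change (-1 : ℤ) ^ i * Curv2.euler k S ((Coh.Rpush f i).obj G) = 0
    rw [Groth.Agent.VarietyA.LerayEuler.euler_eq_zero_of_isZero k _ (hz i (not_lt.mp h)), mul_zero]
  · refine (Set.finite_Iio N).subset fun i hi => ?_
    by_contra h
    refine hi ?_
    change Curv2.deg k S M 1 * ((-1 : ℤ) ^ i * (rk ((Coh.Rpush f i).obj G) : ℤ)) = 0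
    rw [hrk i (not_lt.mp h), Nat.cast_zero, mul_zero, mul_zero]

/-- `euler_twist` in the form with the structure map of `X_η` given by `letI`. -/
theorem euler_twist' (hdim : topologicalKrullDim S ≤ 1) (f : X ⟶ S)
    (hf : f ≫ (S ↘ (Spec (CommRingCat.of k))) = X ↘ (Spec (CommRingCat.of k)))
    (G : X.Modules) (hG : Coh.IsCoh G) (M : S.Modules) (hM : FlatMod.IsFinLocFreeOfRank 1 M)
    (Ω : Type u) [Field Ω] (η : Spec (CommRingCat.of Ω) ⟶ S)
    (hη : η.base (IsLocalRing.closedPoint Ω) = genericPoint S) :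
    letI : (Limits.pullback f η).Over (Spec (CommRingCat.of Ω)) := ⟨Limits.pullback.snd f η⟩
    Curv2.euler k X (CohB1.tensorMod G ((Scheme.Modules.pullback f).obj M)) =
      Curv2.euler k X G + Curv2.deg k S M 1 *
        Curv2.euler Ω (Limits.pullback f η) ((Scheme.Modules.pullback (Limits.pullback.fst f η)).obj G) :=
  letI : (Limits.pullback f η).Over (Spec (CommRingCat.of Ω)) := ⟨Limits.pullback.snd f η⟩
  euler_twist k hdim f hf G hG M hM Ω η hη rfl

end Main

end Groth.Agent.Vancyc.H769.EulerTwist
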